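import Cfsg.Agent.ONanAct.Sub.J1Data

/-! Kernel check of the certificate of the subgroup J1: simple, part B (generated). -/

set_option autoImplicit false
set_option Elab.async false
set_option maxRecDepth 100000

namespace CfsgLib.ONanAct.Sub.J1

open CfsgLib.CosetEnum

theorem simple_partB : (((simpleData.sy.drop 4).take 1).all (data.sylOk simpleData.q)) = true := by decide +kernel

end CfsgLib.ONanAct.Sub.J1
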