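import Cfsg.Agent.ONanAct.Sub.J1ChecksSimpleA
import Cfsg.Agent.ONanAct.Sub.J1ChecksSimpleB
import Cfsg.Agent.ONanAct.Sub.J1ChecksSimpleC

/-! Kernel check of the certificate of the subgroup J1: simple (generated). -/

set_option autoImplicit false
set_option Elab.async false
set_option maxRecDepth 100000

namespace CfsgLib.ONanAct.Sub.J1

open CfsgLib.CosetEnum

theorem simple_ok : data.simpleOk simpleData = true := by
  have hA := simple_partA
  rw [Bool.and_eq_true] at hA
  rw [Data.simpleOk, hA.1, Bool.true_and, ← List.take_append_drop 4 simpleData.sy, List.all_append,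
    hA.2, Bool.true_and, ← List.take_append_drop 1 (simpleData.sy.drop 4), List.all_append,
    simple_partB, simple_partC, Bool.and_self]

end CfsgLib.ONanAct.Sub.J1
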