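import Cfsg.Agent.ONanAct.Sub.J1Data

/-! Kernel checks of the certificate of the subgroup J1: edges (generated). -/

set_option autoImplicit false
set_option Elab.async false
set_option maxRecDepth 100000

namespace CfsgLib.ONanAct.Sub.J1

open CfsgLib.CosetEnum

theorem edges_4 : allR data.edgeOk 8 1024 = true := by decide +kernel

theorem edges_5 : allR data.edgeOk 8 1280 = true := by decide +kernel

theorem edges_6 : allR data.edgeOk 8 1536 = true := by decide +kernel

theorem edges_7 : allR data.edgeOk 8 1792 = true := by decide +kernel

end CfsgLib.ONanAct.Sub.J1
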