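import Cfsg.Agent.ONanAct.Sub.J1Data

/-! Kernel checks of the certificate of the subgroup J1: edges (generated). -/

set_option autoImplicit false
set_option Elab.async false
set_option maxRecDepth 100000

namespace CfsgLib.ONanAct.Sub.J1

open CfsgLib.CosetEnum

theorem edges_8 : allR data.edgeOk 8 2048 = true := by decide +kernel

theorem edges_9 : allR data.edgeOk 8 2304 = true := by decide +kernel

theorem edges_10 : allR data.edgeOk 8 2560 = true := by decide +kernel

theorem edges_11 : allR data.edgeOk 8 2816 = true := by decide +kernel

end CfsgLib.ONanAct.Sub.J1
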