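import Cfsg.Agent.ONanAct.Sub.J1Data
import Cfsg.Agent.ONanAct.Sub.J1Edges0
import Cfsg.Agent.ONanAct.Sub.J1Edges1
import Cfsg.Agent.ONanAct.Sub.J1Edges2
import Cfsg.Agent.ONanAct.Sub.J1Edges3
import Cfsg.Agent.ONanAct.Sub.J1ChecksRep
import Cfsg.Agent.ONanAct.Sub.J1ChecksStab
import Cfsg.Agent.ONanAct.Sub.J1ChecksMisc
import Cfsg.Agent.ONanAct.Sub.J1ChecksSimple

/-! Assembly of the kernel checks of the certificate of the subgroup J1 (generated). -/

set_option autoImplicit false
set_option Elab.async false
set_option maxRecDepth 100000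

namespace CfsgLib.ONanAct.Sub.J1

open CfsgLib.CosetEnum

theorem checks : data.Checks where
  edge e he := by
    have he' : e < 3080 := he
    by_cases h0 : e < 256
    · exact allR_spec 8 0 edges_0 e (by omega) (by omega)
    by_cases h1 : e < 512
    · exact allR_spec 8 256 edges_1 e (by omega) (by omega)
    by_cases h2 : e < 768
    · exact allR_spec 8 512 edges_2 e (by omega) (by omega)
    by_cases h3 : e < 1024
    · exact allR_spec 8 768 edges_3 e (by omega) (by omega)
    by_cases h4 : e < 1280
    · exact allR_spec 8 1024 edges_4 e (by omega) (by omega)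
    by_cases h5 : e < 1536
    · exact allR_spec 8 1280 edges_5 e (by omega) (by omega)
    by_cases h6 : e < 1792
    · exact allR_spec 8 1536 edges_6 e (by omega) (by omega)
    by_cases h7 : e < 2048
    · exact allR_spec 8 1792 edges_7 e (by omega) (by omega)
    by_cases h8 : e < 2304
    · exact allR_spec 8 2048 edges_8 e (by omega) (by omega)
    by_cases h9 : e < 2560
    · exact allR_spec 8 2304 edges_9 e (by omega) (by omega)
    by_cases h10 : e < 2816
    · exact allR_spec 8 2560 edges_10 e (by omega) (by omega)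
    by_cases h11 : e < 3072
    · exact allR_spec 8 2816 edges_11 e (by omega) (by omega)
    exact allR_spec 8 3072 edges_12 e (by omega) (by omega)
  rep j hj := allR_spec 11 0 rep_ok j (Nat.zero_le _) (lt_of_lt_of_le hj (show 1540 ≤ 0 + 2 ^ 11 by norm_num))
  stab i hi := allR_spec 7 0 stab_ok i (Nat.zero_le _) (lt_of_lt_of_le hi (show 114 ≤ 0 + 2 ^ 7 by norm_num))
  misc := misc_ok

end CfsgLib.ONanAct.Sub.J1
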