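import Cfsg.Agent.ONanAct.Simple

/-!
The order of a subgroup of the presented O'Nan group given by two words, from a certificate: the
orbit of one point with a Schreier tree, and the elements of the stabiliser.
-/

set_option autoImplicit false
set_option linter.style.haveILetI false

namespace CfsgLib.ONanAct.Sub

open CfsgLib.CosetEnum Cfsg.Spor

/-- Two words agree on the three base points. -/
noncomputable def eqW (u v : List ℕ) : Bool :=
  [0, 1, 21].all fun p => Nat.beq (walk u p) (walk v p)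

/-- All letters of a word are letters. -/
def okW (w : List ℕ) : Bool := w.all fun x => Nat.blt x 8

/-- The certificate. -/
structure Data where
  n : ℕ
  m : ℕ
  S : List (List ℕ)
  p : ℕ
  reps : List (List (List ℕ))
  A : List (List ℕ)
  pts : ℕ
  tgt : ℕ
  sg : ℕ
  par : ℕ
  ag : List ℕ
  mul : ℕ
  apar : ℕ
  sigma : ℕ
  tau : ℕ

namespace Data

variable (D : Data)

/-- The representative of orbit point `j`. -/
def rep (j : ℕ) : List ℕ := (D.reps.getD (j / 40) []).getD (j % 40) []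

/-- Stabiliser element `i`. -/
def a (i : ℕ) : List ℕ := D.A.getD i []

/-- The generator of edge `e`. -/
def s (e : ℕ) : List ℕ := D.S.getD (e % 2) []

/-- One edge of the orbit. -/
noncomputable def edgeOk (e : ℕ) : Bool :=
  bif Nat.blt e (2 * D.n) then
    Nat.blt (ext D.tgt e) D.n && Nat.blt (ext D.sg e) D.m &&
      eqW (D.rep (e / 2) ++ D.s e) (D.a (ext D.sg e) ++ D.rep (ext D.tgt e))
  else true

/-- One point of the orbit. -/
noncomputable def repOk (j : ℕ) : Bool :=
  bif Nat.blt j D.n then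
    Nat.beq (walk (D.rep j) D.p) (ext D.pts j) &&
      (Nat.beq j 0 || (Nat.blt (ext D.par j) (2 * j) && Nat.beq (ext D.tgt (ext D.par j)) j &&
        Nat.beq (ext D.sg (ext D.par j)) 0)) &&
      Nat.blt (ext D.tau j) D.n && Nat.beq (ext D.sigma (ext D.tau j)) j &&
      (!Nat.blt (j + 1) D.n || Nat.blt (ext D.pts (ext D.sigma j)) (ext D.pts (ext D.sigma (j + 1))))
  else true

/-- One element of the stabiliser. -/
noncomputable def aOk (i : ℕ) : Bool :=
  bif Nat.blt i D.m then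
    Nat.beq (walk (D.a i) D.p) D.p &&
      ((List.range D.ag.length).all fun g =>
        Nat.blt (ext D.mul (D.ag.length * i + g)) D.m &&
          eqW (D.a i ++ D.a (ext D.sg (D.ag.getD g 0))) (D.a (ext D.mul (D.ag.length * i + g)))) &&
      (Nat.beq i 0 || (Nat.blt (ext D.apar i / D.ag.length) i &&
        Nat.beq (ext D.mul (ext D.apar i)) i))
  else true

/-- The other checks. -/
noncomputable def miscOk : Bool :=
  D.reps.all (fun c => c.all okW) && D.A.all okW && D.S.all okW && Nat.beq D.S.length 2 &&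
    (D.rep 0).isEmpty && (D.a 0).isEmpty && Nat.blt 0 D.ag.length && Nat.blt D.p 122760 &&
    Nat.blt 0 D.n && Nat.blt 0 D.m && D.ag.all (fun e => Nat.blt e (2 * D.n)) &&
    decide ((List.range D.m).map fun i => [0, 1, 21].map (walk (D.a i))).Nodup

/-- The subgroup. -/
def K : Subgroup Cfsg.Spor.ON := Subgroup.closure {z | ∃ w ∈ D.S, prodw gen w = z}

/-- All checks. -/
structure Checks : Prop where
  edge : ∀ e, e < 2 * D.n → D.edgeOk e = true
  rep : ∀ j, j < D.n → D.repOk j = true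
  stab : ∀ i, i < D.m → D.aOk i = true
  misc : D.miscOk = true

end Data

theorem walk_append : ∀ (u v : List ℕ) (i : ℕ), walk (u ++ v) i = walk v (walk u i)
  | [], v, i => rfl
  | x :: u, v, i => by rw [List.cons_append, walk_cons, walk_cons, walk_append u v]

theorem okW_iff {w : List ℕ} : okW w = true ↔ ∀ x ∈ w, x < 8 := by
  simp [okW, List.all_eq_true]

theorem getD_mem_or {α : Type*} (l : List α) (i : ℕ) (d : α) : l.getD i d ∈ l ∨ l.getD i d = d := by
  by_cases h : i < l.length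
  · left; rw [List.getD_eq_getElem _ _ h]; exact List.getElem_mem h
  · right; exact List.getD_eq_default _ _ (Nat.le_of_not_lt h)

theorem eq_nil_of_isEmpty {w : List ℕ} (h : w.isEmpty = true) : w = [] := List.isEmpty_iff.mp h

/-- Equal elements walk alike. -/
theorem walk_eq_of_eq {u v : List ℕ} (hu : ∀ x ∈ u, x < 8) (hv : ∀ x ∈ v, x < 8)
    (h : prodw gen u = prodw gen v) (i : ℕ) (hi : i < 122760) : walk u i = walk v i := by
  rw [← act_word u hu ⟨i, hi⟩, ← act_word v hv ⟨i, hi⟩, h]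

variable [Finite Cfsg.Spor.ON] (hle : Nat.card Cfsg.Spor.ON ≤ 460815505920)
include hle

/-- Words agreeing on the three base points are equal elements. -/
theorem eq_of_eqW {u v : List ℕ} (hu : ∀ x ∈ u, x < 8) (hv : ∀ x ∈ v, x < 8)
    (h : eqW u v = true) : prodw gen u = prodw gen v := by
  simp only [eqW, List.all_eq_true] at h
  exact eq_of_walk hle u v hu hv fun p hp => Nat.eq_of_beq_eq_true (h p hp)

theorem gen_iv (x : ℕ) (hx : x < 8) : gen (iv x) = (gen x)⁻¹ := by
  have h : ∀ x < 8, eqW [iv x, x] [] = true := by decide +kernel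
  have e := eq_of_eqW hle (u := [iv x, x]) (v := []) (fun y hy => by
    simp only [List.mem_cons, List.not_mem_nil, or_false] at hy
    rcases hy with rfl | rfl
    exacts [iv_lt x hx, hx]) (fun y hy => absurd hy List.not_mem_nil) (h x hx)
  rw [prodw_cons, prodw_cons, prodw_nil, mul_one] at e
  exact eq_inv_of_mul_eq_one_left e

variable {D : Data} (C : D.Checks)
include C

omit hle [Finite Cfsg.Spor.ON] in
theorem misc_spec : (∀ c ∈ D.reps, ∀ w ∈ c, okW w = true) ∧ (∀ w ∈ D.A, okW w = true) ∧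
    (∀ w ∈ D.S, okW w = true) ∧ D.S.length = 2 ∧ D.rep 0 = [] ∧ D.a 0 = [] ∧
    0 < D.ag.length ∧ D.p < 122760 ∧ 0 < D.n ∧ 0 < D.m ∧ (∀ e ∈ D.ag, e < 2 * D.n) ∧
    ((List.range D.m).map fun i => [0, 1, 21].map (walk (D.a i))).Nodup := by
  have h := C.misc
  simp only [Data.miscOk, Bool.and_eq_true, List.all_eq_true, Nat.blt_eq, decide_eq_true_eq,
    Nat.beq_eq] at h
  obtain ⟨⟨⟨⟨⟨⟨⟨⟨⟨⟨⟨h1, h2⟩, h3⟩, h4⟩, h5⟩, h6⟩, h7⟩, h8⟩, h9⟩, h10⟩, h11⟩, h12⟩ := h
  exact ⟨h1, h2, h3, h4, eq_nil_of_isEmpty h5, eq_nil_of_isEmpty h6, h7, h8, h9, h10, h11, h12⟩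

omit hle [Finite Cfsg.Spor.ON] in
theorem lt_rep (j : ℕ) : ∀ x ∈ D.rep j, x < 8 := by
  rw [← okW_iff]
  rcases getD_mem_or (D.reps.getD (j / 40) []) (j % 40) [] with h | h
  · rcases getD_mem_or D.reps (j / 40) [] with h' | h'
    · exact (misc_spec C).1 _ h' _ h
    · rw [h'] at h; exact absurd h List.not_mem_nil
  · rw [Data.rep, h]; rfl

omit hle [Finite Cfsg.Spor.ON] in
theorem lt_a (i : ℕ) : ∀ x ∈ D.a i, x < 8 := by
  rw [← okW_iff]
  rcases getD_mem_or D.A i [] with h | h
  · exact (misc_spec C).2.1 _ h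
  · rw [Data.a, h]; rfl

omit hle [Finite Cfsg.Spor.ON] in
theorem lt_s (e : ℕ) : ∀ x ∈ D.s e, x < 8 := by
  rw [← okW_iff]
  rcases getD_mem_or D.S (e % 2) [] with h | h
  · exact (misc_spec C).2.2.1 _ h
  · rw [Data.s, h]; rfl

theorem edge_eq (e : ℕ) (he : e < 2 * D.n) :
    ext D.tgt e < D.n ∧ ext D.sg e < D.m ∧
      prodw gen (D.rep (e / 2)) * prodw gen (D.s e) =
        prodw gen (D.a (ext D.sg e)) * prodw gen (D.rep (ext D.tgt e)) := by
  have h := C.edge e he
  rw [Data.edgeOk, show Nat.blt e (2 * D.n) = true from Nat.ble_eq_true_of_le he, cond_true,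
    Bool.and_eq_true, Bool.and_eq_true] at h
  refine ⟨Nat.le_of_ble_eq_true h.1.1, Nat.le_of_ble_eq_true h.1.2, ?_⟩
  rw [← prodw_append, ← prodw_append]
  refine eq_of_eqW hle (fun x hx => ?_) (fun x hx => ?_) h.2
  · rcases List.mem_append.mp hx with hx | hx
    exacts [lt_rep C _ x hx, lt_s C _ x hx]
  · rcases List.mem_append.mp hx with hx | hx
    exacts [lt_a C _ x hx, lt_rep C _ x hx]

omit hle [Finite Cfsg.Spor.ON] in
theorem rep_spec (j : ℕ) (hj : j < D.n) :
    walk (D.rep j) D.p = ext D.pts j ∧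
      (j = 0 ∨ (ext D.par j < 2 * j ∧ ext D.tgt (ext D.par j) = j ∧
        ext D.sg (ext D.par j) = 0)) ∧
      ext D.tau j < D.n ∧ ext D.sigma (ext D.tau j) = j ∧
      (j + 1 < D.n → ext D.pts (ext D.sigma j) < ext D.pts (ext D.sigma (j + 1))) := by
  have h := C.rep j hj
  rw [Data.repOk, show Nat.blt j D.n = true from Nat.ble_eq_true_of_le hj, cond_true] at h
  simp only [Bool.and_eq_true, Bool.or_eq_true, Bool.not_eq_true', Nat.blt_eq, Nat.beq_eq] at h
  obtain ⟨⟨⟨⟨h1, h2⟩, h3⟩, h4⟩, h5⟩ := h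
  refine ⟨h1, h2.imp id fun h => ⟨h.1.1, h.1.2, h.2⟩, h3, h4, fun hj1 => ?_⟩
  refine h5.resolve_left fun hb => ?_
  rw [show Nat.blt (j + 1) D.n = true from Nat.ble_eq_true_of_le hj1] at hb
  exact Bool.noConfusion hb

omit hle [Finite Cfsg.Spor.ON] in
theorem mem_s (e : ℕ) : prodw gen (D.s e) ∈ D.K := by
  have h : e % 2 < D.S.length := by rw [(misc_spec C).2.2.2.1]; omega
  refine Subgroup.subset_closure ⟨_, ?_, rfl⟩
  rw [Data.s, List.getD_eq_getElem _ _ h]
  exact List.getElem_mem h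

theorem mem_rep : ∀ j, j < D.n → prodw gen (D.rep j) ∈ D.K := by
  intro j
  induction j using Nat.strong_induction_on with
  | _ j ih =>
    intro hj
    rcases (rep_spec C j hj).2.1 with h0 | ⟨h1, h2, h3⟩
    · rw [h0, (misc_spec C).2.2.2.2.1, prodw_nil]; exact one_mem _
    · obtain ⟨-, -, e⟩ := edge_eq hle C (ext D.par j) (by omega)
      rw [h2, h3, (misc_spec C).2.2.2.2.2.1, prodw_nil, one_mul] at e
      rw [← e]
      exact mul_mem (ih _ (by omega) (by omega)) (mem_s C _)

theorem mem_ag (g : ℕ) (hg : g < D.ag.length) :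
    ext D.sg (D.ag.getD g 0) < D.m ∧ prodw gen (D.a (ext D.sg (D.ag.getD g 0))) ∈ D.K := by
  have he : D.ag.getD g 0 < 2 * D.n := by
    rw [List.getD_eq_getElem _ _ hg]
    exact (misc_spec C).2.2.2.2.2.2.2.2.2.2.1 _ (List.getElem_mem hg)
  obtain ⟨ht, hs, e⟩ := edge_eq hle C _ he
  refine ⟨hs, ?_⟩
  rw [eq_mul_inv_of_mul_eq e.symm]
  exact mul_mem (mul_mem (mem_rep hle C _ (by omega)) (mem_s C _))
    (inv_mem (mem_rep hle C _ ht))

theorem stab_spec (i : ℕ) (hi : i < D.m) :
    walk (D.a i) D.p = D.p ∧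
      (∀ g, g < D.ag.length → ext D.mul (D.ag.length * i + g) < D.m ∧
        prodw gen (D.a i) * prodw gen (D.a (ext D.sg (D.ag.getD g 0))) =
          prodw gen (D.a (ext D.mul (D.ag.length * i + g)))) ∧
      (i = 0 ∨ (ext D.apar i / D.ag.length < i ∧ ext D.mul (ext D.apar i) = i)) := by
  have h := C.stab i hi
  rw [Data.aOk, show Nat.blt i D.m = true from Nat.ble_eq_true_of_le hi, cond_true] at h
  simp only [Bool.and_eq_true, Bool.or_eq_true, List.all_eq_true, List.mem_range, Nat.blt_eq,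
    Nat.beq_eq] at h
  obtain ⟨⟨h1, h2⟩, h3⟩ := h
  refine ⟨h1, fun g hg => ⟨(h2 g hg).1, ?_⟩, h3⟩
  rw [← prodw_append]
  refine eq_of_eqW hle (fun x hx => ?_) (lt_a C _) (h2 g hg).2
  rcases List.mem_append.mp hx with hx | hx
  exacts [lt_a C _ x hx, lt_a C _ x hx]

theorem apar_spec (i : ℕ) (hi : i < D.m) (h0 : i ≠ 0) :
    ext D.apar i / D.ag.length < i ∧
      prodw gen (D.a (ext D.apar i / D.ag.length)) *
          prodw gen (D.a (ext D.sg (D.ag.getD (ext D.apar i % D.ag.length) 0))) =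
        prodw gen (D.a i) := by
  obtain ⟨h1, h2⟩ := (stab_spec hle C i hi).2.2.resolve_left h0
  refine ⟨h1, ?_⟩
  have hG := (misc_spec C).2.2.2.2.2.2.1
  have e := ((stab_spec hle C _ (lt_trans h1 hi)).2.1 (ext D.apar i % D.ag.length)
    (Nat.mod_lt _ hG)).2
  rwa [Nat.div_add_mod, h2] at e

theorem mem_a : ∀ i, i < D.m → prodw gen (D.a i) ∈ D.K := by
  intro i
  induction i using Nat.strong_induction_on with
  | _ i ih =>
    intro hi
    by_cases h0 : i = 0
    · rw [h0, (misc_spec C).2.2.2.2.2.1, prodw_nil]; exact one_mem _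
    obtain ⟨h1, e⟩ := apar_spec hle C i hi h0
    rw [← e]
    exact mul_mem (ih _ h1 (lt_trans h1 hi))
      (mem_ag hle C _ (Nat.mod_lt _ (misc_spec C).2.2.2.2.2.2.1)).2

theorem mul_a : ∀ k, k < D.m → ∀ i, i < D.m →
    ∃ l, l < D.m ∧ prodw gen (D.a i) * prodw gen (D.a k) = prodw gen (D.a l) := by
  intro k
  induction k using Nat.strong_induction_on with
  | _ k ih =>
    intro hk i hi
    by_cases h0 : k = 0
    · exact ⟨i, hi, by rw [h0, (misc_spec C).2.2.2.2.2.1, prodw_nil, mul_one]⟩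
    obtain ⟨h1, e⟩ := apar_spec hle C k hk h0
    obtain ⟨l, hl, el⟩ := ih _ h1 (lt_trans h1 hk) i hi
    obtain ⟨hl2, el2⟩ :=
      (stab_spec hle C l hl).2.1 _ (Nat.mod_lt (ext D.apar k) (misc_spec C).2.2.2.2.2.2.1)
    exact ⟨_, hl2, by rw [← e, ← mul_assoc, el, el2]⟩

/-- The elements of the subgroup. -/
theorem mem_K_iff (z : Cfsg.Spor.ON) : z ∈ D.K ↔
    ∃ i < D.m, ∃ j < D.n, prodw gen (D.a i) * prodw gen (D.rep j) = z := by
  constructor
  · intro hz
    let M : Submonoid Cfsg.Spor.ON :=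
      { carrier := {z | ∀ i < D.m, ∀ j < D.n, ∃ i' < D.m, ∃ j' < D.n,
          prodw gen (D.a i') * prodw gen (D.rep j') =
            prodw gen (D.a i) * prodw gen (D.rep j) * z}
        one_mem' := fun i hi j hj => ⟨i, hi, j, hj, (mul_one _).symm⟩
        mul_mem' := fun {u v} hu hv i hi j hj => by
          obtain ⟨i', hi', j', hj', e⟩ := hu i hi j hj
          obtain ⟨i'', hi'', j'', hj'', e'⟩ := hv i' hi' j' hj'
          exact ⟨i'', hi'', j'', hj'', by rw [e', e, ← mul_assoc]⟩ }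
    have hM : Submonoid.closure {z | ∃ w ∈ D.S, prodw gen w = z} ≤ M := by
      rw [Submonoid.closure_le]
      rintro _ ⟨w, hw, rfl⟩ i hi j hj
      obtain ⟨t, ht, rfl⟩ := List.getElem_of_mem hw
      have ht2 : t < 2 := (misc_spec C).2.2.2.1 ▸ ht
      obtain ⟨hc, hk, e⟩ := edge_eq hle C (2 * j + t) (by omega)
      rw [show (2 * j + t) / 2 = j by omega, Data.s, show (2 * j + t) % 2 = t by omega,
        List.getD_eq_getElem _ _ ht] at e
      obtain ⟨l, hl, el⟩ := mul_a hle C _ hk i hi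
      exact ⟨l, hl, _, hc, by rw [mul_assoc, e, ← mul_assoc, el]⟩
    rw [← Subgroup.mem_toSubmonoid, Data.K, Subgroup.closure_toSubmonoid_of_finite] at hz
    obtain ⟨-, -, -, -, h00, ha0, -, -, hn, hm, -⟩ := misc_spec C
    obtain ⟨i, hi, j, hj, e⟩ := hM hz 0 hm 0 hn
    refine ⟨i, hi, j, hj, ?_⟩
    rw [e, ha0, h00, prodw_nil, one_mul, one_mul]
  · rintro ⟨i, hi, j, hj, rfl⟩
    exact mul_mem (mem_a hle C i hi) (mem_rep hle C j hj)

omit hle [Finite Cfsg.Spor.ON] in
theorem pts_inj (j k : ℕ) (hj : j < D.n) (hk : k < D.n) (h : ext D.pts j = ext D.pts k) :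
    j = k := by
  have mono : ∀ b, b < D.n → ∀ a, a < b →
      ext D.pts (ext D.sigma a) < ext D.pts (ext D.sigma b) := by
    intro b
    induction b with
    | zero => intro _ a ha; omega
    | succ b ih =>
      intro hb a ha
      have h1 := (rep_spec C b (by omega)).2.2.2.2 hb
      rcases Nat.lt_succ_iff_lt_or_eq.mp ha with h' | h'
      · exact lt_trans (ih (by omega) a h') h1
      · rw [h']; exact h1
  obtain ⟨-, -, h1, h2, -⟩ := rep_spec C j hj
  obtain ⟨-, -, h3, h4, -⟩ := rep_spec C k hk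
  rcases lt_trichotomy (ext D.tau j) (ext D.tau k) with h' | h' | h'
  · have := mono _ h3 _ h'; rw [h2, h4] at this; omega
  · rw [← h2, ← h4, h']
  · have := mono _ h1 _ h'; rw [h2, h4] at this; omega

/-- The order of the subgroup. -/
theorem card_K : Nat.card D.K = D.m * D.n := by
  let f : Fin D.m × Fin D.n → D.K := fun q =>
    ⟨prodw gen (D.a q.1) * prodw gen (D.rep q.2),
      mul_mem (mem_a hle C _ q.1.2) (mem_rep hle C _ q.2.2)⟩
  have hf : Function.Bijective f := by
    constructor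
    · rintro ⟨i, j⟩ ⟨i', j'⟩ h
      have e : prodw gen (D.a i ++ D.rep j) = prodw gen (D.a i' ++ D.rep j') := by
        rw [prodw_append, prodw_append]; exact congrArg Subtype.val h
      have hlt : ∀ (i j : ℕ), ∀ x ∈ D.a i ++ D.rep j, x < 8 := fun i j x hx => by
        rcases List.mem_append.mp hx with hx | hx
        exacts [lt_a C _ x hx, lt_rep C _ x hx]
      have hp := walk_eq_of_eq (hlt i j) (hlt i' j') e D.p (misc_spec C).2.2.2.2.2.2.2.1
      rw [walk_append, walk_append, (stab_spec hle C i i.2).1, (stab_spec hle C i' i'.2).1,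
        (rep_spec C j j.2).1, (rep_spec C j' j'.2).1] at hp
      obtain rfl : j = j' := Fin.ext (pts_inj C _ _ j.2 j'.2 hp)
      rw [prodw_append, prodw_append] at e
      have e' := mul_right_cancel e
      have hw : [0, 1, 21].map (walk (D.a i)) = [0, 1, 21].map (walk (D.a i')) :=
        List.map_congr_left fun x hx => walk_eq_of_eq (lt_a C _) (lt_a C _) e' x
          (by simp only [List.mem_cons, List.not_mem_nil, or_false] at hx; omega)
      have hnd := (misc_spec C).2.2.2.2.2.2.2.2.2.2.2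
      have hi : i = i' := Fin.ext
        ((hnd.getElem_inj_iff (hi := by simp) (hj := by simp)).mp
          (by simpa [List.getElem_map] using hw))
      rw [hi]
    · rintro ⟨z, hz⟩
      obtain ⟨i, hi, j, hj, e⟩ := (mem_K_iff hle C z).mp hz
      exact ⟨(⟨i, hi⟩, ⟨j, hj⟩), Subtype.ext e⟩
  rw [← Nat.card_congr (Equiv.ofBijective f hf), Nat.card_prod, Nat.card_fin, Nat.card_fin]

end CfsgLib.ONanAct.Sub
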