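import Mathlib

/-!
A simplicity criterion by elements of one prime order: every nontrivial element of a Sylow subgroup
puts an element of order `q` into its normal closure, and the elements of order `q` generate.
-/

set_option autoImplicit false

namespace CfsgLib.ONanAct.Sub

variable {K : Type*} [Group K] [Finite K]

theorem isSimple_of_prime {q : ℕ} (hq : q.Prime) (hq2 : ¬ q * q ∣ Nat.card K)
    (hone : 1 < Nat.card K)
    (hgen : Subgroup.closure {y : K | y ^ q = 1} = ⊤)
    (hsyl : ∀ p : ℕ, p.Prime → p ∣ Nat.card K → ∃ P : Subgroup K,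
      Nat.card P = p ^ (Nat.card K).factorization p ∧
        ∀ e ∈ P, e ≠ 1 → ∀ N : Subgroup K, N.Normal → e ∈ N → ∃ y ∈ N, y ^ q = 1 ∧ y ≠ 1) :
    IsSimpleGroup K := by
  haveI : Nontrivial K := Finite.one_lt_card_iff_nontrivial.mp hone
  refine ⟨fun N hN => (em (N = ⊥)).imp id fun hne => ?_⟩
  haveI := hN
  obtain ⟨p, hp, hpN⟩ := Nat.exists_prime_and_dvd (n := Nat.card N)
    fun h => hne (Subgroup.card_eq_one.mp h)
  haveI : _root_.Fact p.Prime := ⟨hp⟩
  obtain ⟨P, hP, hPe⟩ := hsyl p hp (hpN.trans (Subgroup.card_subgroup_dvd_card N))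
  obtain ⟨e, he⟩ := exists_prime_orderOf_dvd_card' (G := N) p hpN
  have heG : orderOf (e : K) = p := by rw [Subgroup.orderOf_coe]; exact he
  have hz : IsPGroup p (Subgroup.zpowers (e : K)) :=
    IsPGroup.of_card (n := 1) (by rw [Nat.card_zpowers, heG, pow_one])
  obtain ⟨Q, hQ⟩ := hz.exists_le_sylow
  obtain ⟨g, hg⟩ := MulAction.exists_smul_eq K Q (Sylow.ofCard P hP)
  have hconj : g * (e : K) * g⁻¹ ∈ P := by
    have h := Subgroup.smul_mem_pointwise_smul (e : K) (MulAut.conj g) (Q : Subgroup K)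
      (hQ (Subgroup.mem_zpowers _))
    rw [← Sylow.coe_subgroup_smul] at h
    change MulAut.conj g • (e : K) ∈ ((g • Q : Sylow p K) : Subgroup K) at h
    rw [hg] at h
    exact h
  have hne1 : g * (e : K) * g⁻¹ ≠ 1 := by
    intro h
    rw [conj_eq_one_iff] at h
    rw [h, orderOf_one] at heG
    exact hp.one_lt.ne heG
  obtain ⟨y, hyN, hy, hy1⟩ := hPe _ hconj hne1 N hN (hN.conj_mem _ e.2 g)
  have hyo : orderOf y = q :=
    ((Nat.dvd_prime hq).mp (orderOf_dvd_of_pow_eq_one hy)).resolve_left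
      fun h => hy1 (orderOf_eq_one_iff.mp h)
  have hqN : q ∣ Nat.card N := by
    have := orderOf_dvd_natCard (⟨y, hyN⟩ : N)
    rwa [← Subgroup.orderOf_coe, hyo] at this
  have hidx : ¬ q ∣ Nat.card (K ⧸ N) := fun hd => hq2 <| by
    rw [Subgroup.card_eq_card_quotient_mul_card_subgroup N]
    exact Nat.mul_dvd_mul hd hqN
  rw [eq_top_iff, ← hgen, Subgroup.closure_le]
  intro z hz'
  rw [SetLike.mem_coe, ← QuotientGroup.eq_one_iff, ← orderOf_eq_one_iff]
  rcases (Nat.dvd_prime hq).mp (orderOf_dvd_of_pow_eq_one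
    (show (z : K ⧸ N) ^ q = 1 by rw [← QuotientGroup.mk_pow, hz']; rfl)) with h | h
  · exact h
  · exact absurd (h ▸ orderOf_dvd_natCard (z : K ⧸ N)) hidx

end CfsgLib.ONanAct.Sub
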