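import Cfsg.Agent.ONanAct.Sub.M11Data

/-! Kernel checks of the certificate of the subgroup M11: edges (generated). -/

set_option autoImplicit false
set_option Elab.async false
set_option maxRecDepth 100000

namespace CfsgLib.ONanAct.Sub.M11

open CfsgLib.CosetEnum

theorem edges_0 : allR data.edgeOk 9 0 = true := by decide +kernel

end CfsgLib.ONanAct.Sub.M11
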