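import Cfsg.Agent.ONanAct.Sub.M11Data
import Cfsg.Agent.ONanAct.Sub.M11Edges0

/-! Kernel checks of the certificate of the subgroup M11: points, stabiliser and simplicity (generated). -/

set_option autoImplicit false
set_option Elab.async false
set_option maxRecDepth 100000

namespace CfsgLib.ONanAct.Sub.M11

open CfsgLib.CosetEnum

theorem rep_ok : allR data.repOk 8 0 = true := by decide +kernel

theorem stab_ok : allR data.aOk 6 0 = true := by decide +kernel

theorem misc_ok : data.miscOk = true := by decide +kernel

theorem simple_ok : data.simpleOk simpleData = true := by decide +kernel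

theorem checks : data.Checks where
  edge e he := by
    have he' : e < 330 := he
    exact allR_spec 9 0 edges_0 e (by omega) (by omega)
  rep j hj := allR_spec 8 0 rep_ok j (Nat.zero_le _) (lt_of_lt_of_le hj (show 165 ≤ 0 + 2 ^ 8 by norm_num))
  stab i hi := allR_spec 6 0 stab_ok i (Nat.zero_le _) (lt_of_lt_of_le hi (show 48 ≤ 0 + 2 ^ 6 by norm_num))
  misc := misc_ok

end CfsgLib.ONanAct.Sub.M11
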