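import Cfsg.Agent.ONanAct.Sub.Chain
import Cfsg.Agent.ONanAct.Sub.Criterion

/-!
Simplicity of a certified subgroup of the presented O'Nan group.
-/

set_option autoImplicit false
set_option linter.style.haveILetI false

namespace CfsgLib.ONanAct.Sub

open CfsgLib.CosetEnum Cfsg.Spor

/-- The inverse of a word. -/
def invW (w : List ℕ) : List ℕ := (w.map iv).reverse

/-- A Sylow subgroup by the places of its nontrivial elements, its table of products, and for each
element the places of conjugators. -/
structure Syl where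
  p : ℕ
  k : ℕ
  els : List (ℕ × ℕ)
  mul : List (List ℕ)
  hs : List (List (ℕ × ℕ))

/-- The certificate of simplicity. -/
structure SimpleData where
  q : ℕ
  sy : List Syl
  gens : List (List (ℕ × ℕ))

namespace Data

variable (D : Data)

/-- The word of an element of the subgroup. -/
def word (l : ℕ × ℕ) : List ℕ := D.a l.1 ++ D.rep l.2

/-- A place of an element. -/
def okLoc (l : ℕ × ℕ) : Bool := Nat.blt l.1 D.m && Nat.blt l.2 D.n

/-- Element `t` of a Sylow subgroup, `0` being the identity. -/
def el (Y : Syl) (t : ℕ) : List ℕ :=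
  if t = 0 then [] else D.word (Y.els.getD (t - 1) (0, 0))

/-- The product of conjugates of an element of a Sylow subgroup. -/
def prodConj (Y : Syl) (t : ℕ) : List ℕ :=
  D.el Y (t + 1) ++ (Y.hs.getD t []).flatMap fun h => invW (D.word h) ++ D.el Y (t + 1) ++ D.word h

/-- The checks on one Sylow subgroup. -/
noncomputable def sylOk (q : ℕ) (Y : Syl) : Bool :=
  Nat.beq (Y.els.length + 1) (Y.p ^ Y.k) && Y.els.all D.okLoc && Y.hs.all (fun l => l.all D.okLoc) &&
    decide ((List.range (Y.els.length + 1)).map fun t => [0, 1, 21].map (walk (D.el Y t))).Nodup &&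
    ((List.range (Y.els.length + 1)).all fun t => (List.range (Y.els.length + 1)).all fun u =>
      Nat.blt ((Y.mul.getD t []).getD u 0) (Y.els.length + 1) &&
        eqW (D.el Y t ++ D.el Y u) (D.el Y ((Y.mul.getD t []).getD u 0))) &&
    (List.range Y.els.length).all fun t =>
      eqW (List.replicate q (D.prodConj Y t)).flatten [] && !eqW (D.prodConj Y t) []

/-- The checks on the generators. -/
noncomputable def gensOk (S : SimpleData) : Bool :=
  Nat.beq S.gens.length D.S.length && S.gens.all (fun l => l.all D.okLoc) &&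
    (List.range D.S.length).all fun t =>
      eqW ((S.gens.getD t []).flatMap D.word) (D.S.getD t []) &&
        (S.gens.getD t []).all fun u => eqW (List.replicate S.q (D.word u)).flatten []

/-- All checks of simplicity. -/
noncomputable def simpleOk (S : SimpleData) : Bool := D.gensOk S && S.sy.all (D.sylOk S.q)

end Data

variable [Finite Cfsg.Spor.ON] (hle : Nat.card Cfsg.Spor.ON ≤ 460815505920)
variable {D : Data} (C : D.Checks)
include C

omit [Finite Cfsg.Spor.ON] in
theorem lt_word (l : ℕ × ℕ) : ∀ x ∈ D.word l, x < 8 := fun x hx => by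
  rcases List.mem_append.mp hx with hx | hx
  exacts [lt_a C _ x hx, lt_rep C _ x hx]

omit [Finite Cfsg.Spor.ON] in
theorem lt_invW {w : List ℕ} (h : ∀ x ∈ w, x < 8) : ∀ x ∈ invW w, x < 8 := fun x hx => by
  obtain ⟨y, hy, rfl⟩ := List.mem_map.mp (List.mem_reverse.mp hx)
  exact iv_lt y (h y hy)

omit [Finite Cfsg.Spor.ON] in
theorem lt_el (Y : Syl) (t : ℕ) : ∀ x ∈ D.el Y t, x < 8 := by
  unfold Data.el
  split_ifs
  · exact fun x hx => absurd hx List.not_mem_nil
  · exact lt_word C _

omit [Finite Cfsg.Spor.ON] in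
theorem lt_flat {w : List ℕ} (h : ∀ x ∈ w, x < 8) (k : ℕ) :
    ∀ x ∈ (List.replicate k w).flatten, x < 8 := fun x hx => by
  obtain ⟨l, hl, hxl⟩ := List.mem_flatten.mp hx
  rw [List.eq_of_mem_replicate hl] at hxl
  exact h x hxl

omit [Finite Cfsg.Spor.ON] in
theorem lt_prodConj (Y : Syl) (t : ℕ) : ∀ x ∈ D.prodConj Y t, x < 8 := fun x hx => by
  rcases List.mem_append.mp hx with hx | hx
  · exact lt_el C Y _ x hx
  obtain ⟨h, -, hx⟩ := List.mem_flatMap.mp hx
  rcases List.mem_append.mp hx with hx | hx
  · rcases List.mem_append.mp hx with hx | hx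
    exacts [lt_invW C (lt_word C h) x hx, lt_el C Y _ x hx]
  · exact lt_word C h x hx

include hle

theorem mem_word {l : ℕ × ℕ} (h : D.okLoc l = true) : prodw gen (D.word l) ∈ D.K := by
  simp only [Data.okLoc, Bool.and_eq_true, Nat.blt_eq] at h
  rw [Data.word, prodw_append]
  exact mul_mem (mem_a hle C _ h.1) (mem_rep hle C _ h.2)

theorem prodw_invW {w : List ℕ} (h : ∀ x ∈ w, x < 8) :
    prodw gen (invW w) = (prodw gen w)⁻¹ :=
  prodw_rev_iv gen 8 iv (fun x hx _ => gen_iv hle x hx) w fun y hy => ⟨h y hy, iv_lt y (h y hy)⟩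

/-- The subgroup is simple. -/
theorem isSimple_K (S : SimpleData) (hS : D.simpleOk S = true) (hq : S.q.Prime)
    (hq2 : ¬ S.q * S.q ∣ D.m * D.n) (hone : 1 < D.m * D.n)
    (hfull : ∀ Y ∈ S.sy, Y.p.Prime ∧ Y.p ^ Y.k ∣ D.m * D.n ∧ ¬ Y.p ^ (Y.k + 1) ∣ D.m * D.n)
    (hall : ∀ p : ℕ, p.Prime → p ∣ D.m * D.n → ∃ Y ∈ S.sy, Y.p = p) :
    IsSimpleGroup D.K := by
  have hcard := card_K hle C
  simp only [Data.simpleOk, Data.gensOk, Bool.and_eq_true, List.all_eq_true, List.mem_range,
    Nat.beq_eq] at hS
  obtain ⟨⟨⟨hlen, hgl⟩, hgens⟩, hsy⟩ := hS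
  refine isSimple_of_prime hq (by rwa [hcard]) (by rwa [hcard]) ?_ ?_
  · have hmem : ∀ w ∈ D.S, ∃ z : D.K, (z : Cfsg.Spor.ON) = prodw gen w ∧
        z ∈ Subgroup.closure {y : D.K | y ^ S.q = 1} := by
      intro w hw
      obtain ⟨t, ht, rfl⟩ := List.getElem_of_mem hw
      obtain ⟨he, hu⟩ := hgens t ht
      have hw8 : ∀ x ∈ D.S[t], x < 8 := okW_iff.mp ((misc_spec C).2.2.1 _ hw)
      rw [List.getD_eq_getElem _ _ ht] at he
      have hl : ∀ u ∈ S.gens.getD t [], D.okLoc u = true := by
        intro u hu'
        have htl : t < S.gens.length := by omega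
        rw [List.getD_eq_getElem _ _ htl] at hu'
        exact hgl _ (List.getElem_mem htl) u hu'
      have hkey : ∀ L : List (ℕ × ℕ), (∀ u ∈ L, D.okLoc u = true) →
          (∀ u ∈ L, eqW (List.replicate S.q (D.word u)).flatten [] = true) →
          ∃ z : D.K, (z : Cfsg.Spor.ON) = prodw gen (L.flatMap D.word) ∧
            z ∈ Subgroup.closure {y : D.K | y ^ S.q = 1} := by
        intro L
        induction L with
        | nil => exact fun _ _ => ⟨1, by rw [List.flatMap_nil, prodw_nil]; rfl, one_mem _⟩
        | cons u L ih =>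
          intro h1 h2
          obtain ⟨z, hz, hzm⟩ := ih (fun v hv => h1 v (List.mem_cons_of_mem _ hv))
            (fun v hv => h2 v (List.mem_cons_of_mem _ hv))
          refine ⟨⟨_, mem_word hle C (h1 u List.mem_cons_self)⟩ * z, ?_,
            mul_mem (Subgroup.subset_closure ?_) hzm⟩
          · rw [Subgroup.coe_mul, hz, List.flatMap_cons, prodw_append]
          · refine Subtype.ext ?_
            rw [Subgroup.coe_pow, Subgroup.coe_one, ← prodw_flatten_replicate, ← prodw_nil gen]
            exact eq_of_eqW hle (lt_flat C (lt_word C u) _)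
              (fun x hx => absurd hx List.not_mem_nil) (h2 u List.mem_cons_self)
      obtain ⟨z, hz, hzm⟩ := hkey _ hl hu
      refine ⟨z, hz.trans (eq_of_eqW hle (fun x hx => ?_) hw8 he), hzm⟩
      obtain ⟨u, -, hxu⟩ := List.mem_flatMap.mp hx
      exact lt_word C u x hxu
    rw [eq_top_iff]
    intro z _
    have hsub : D.K ≤ (Subgroup.closure {y : D.K | y ^ S.q = 1}).map D.K.subtype := by
      conv_lhs => rw [Data.K]
      rw [Subgroup.closure_le]
      rintro _ ⟨w, hw, rfl⟩
      obtain ⟨z', hz', hzm⟩ := hmem w hw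
      exact ⟨z', hzm, hz'⟩
    obtain ⟨z', hzm, hz'⟩ := hsub z.2
    rwa [show z = z' from Subtype.ext hz'.symm]
  · intro p hp hd
    rw [hcard] at hd
    obtain ⟨Y, hY, rfl⟩ := hall p hp hd
    obtain ⟨-, hdk, hdk1⟩ := hfull Y hY
    have hok := hsy Y hY
    simp only [Data.sylOk, Bool.and_eq_true, List.all_eq_true, List.mem_range, decide_eq_true_eq,
      Nat.beq_eq, Nat.blt_eq, Bool.not_eq_true'] at hok
    obtain ⟨⟨⟨⟨⟨hsize, hels⟩, hhs⟩, hnd⟩, hmul⟩, hconj⟩ := hok
    set L := Y.els.length + 1 with hL
    have hmemel : ∀ t, t < L → prodw gen (D.el Y t) ∈ D.K := by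
      intro t ht
      unfold Data.el
      split_ifs with h0
      · rw [prodw_nil]; exact one_mem _
      · have h' : t - 1 < Y.els.length := by omega
        rw [List.getD_eq_getElem _ _ h']
        exact mem_word hle C (hels _ (List.getElem_mem h'))
    let v : Fin L → D.K := fun t => ⟨_, hmemel t t.2⟩
    have hv : Function.Injective v := by
      intro t u h
      have e : prodw gen (D.el Y t) = prodw gen (D.el Y u) := congrArg Subtype.val h
      have hw : [0, 1, 21].map (walk (D.el Y t)) = [0, 1, 21].map (walk (D.el Y u)) :=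
        List.map_congr_left fun x hx => walk_eq_of_eq (lt_el C Y _) (lt_el C Y _) e x
          (by simp only [List.mem_cons, List.not_mem_nil, or_false] at hx; omega)
      exact Fin.ext ((hnd.getElem_inj_iff (hi := by simp) (hj := by simp)).mp
        (by simpa [List.getElem_map] using hw))
    have h0L : 0 < L := Nat.succ_pos _
    let M : Submonoid D.K :=
      { carrier := Set.range v
        one_mem' := ⟨⟨0, h0L⟩, Subtype.ext (by
          show prodw gen (D.el Y 0) = 1
          rw [Data.el, if_pos rfl, prodw_nil])⟩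
        mul_mem' := by
          rintro _ _ ⟨t, rfl⟩ ⟨u, rfl⟩
          obtain ⟨h1, h2⟩ := hmul t t.2 u u.2
          refine ⟨⟨_, h1⟩, Subtype.ext ?_⟩
          show prodw gen (D.el Y _) = prodw gen (D.el Y t) * prodw gen (D.el Y u)
          rw [← prodw_append]
          refine (eq_of_eqW hle (fun x hx => ?_) (lt_el C Y _) h2).symm
          rcases List.mem_append.mp hx with hx | hx
          exacts [lt_el C Y _ x hx, lt_el C Y _ x hx] }
    let P : Subgroup D.K :=
      { M with
        inv_mem' := fun {x} hx => by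
          have h1 : x⁻¹ ∈ Submonoid.powers x :=
            mem_powers_iff_mem_zpowers.mpr (inv_mem (Subgroup.mem_zpowers x))
          exact (Submonoid.powers_le.mpr hx) h1 }
    refine ⟨P, ?_, ?_⟩
    · have hf : (Nat.card D.K).factorization Y.p = Y.k := by
        rw [hcard]
        have hne : D.m * D.n ≠ 0 := by omega
        have h1 := (hp.pow_dvd_iff_le_factorization hne).mp hdk
        have h2 : ¬ Y.k + 1 ≤ (D.m * D.n).factorization Y.p := fun h =>
          hdk1 ((hp.pow_dvd_iff_le_factorization hne).mpr h)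
        omega
      rw [hf, ← hsize]
      show Nat.card (Set.range v) = L
      rw [← Nat.card_congr (Equiv.ofInjective v hv), Nat.card_fin]
    · rintro _ ⟨t, rfl⟩ hne N hN hmemN
      have ht0 : (t : ℕ) ≠ 0 := by
        intro h
        refine hne (Subtype.ext ?_)
        show prodw gen (D.el Y t) = 1
        rw [Data.el, if_pos h, prodw_nil]
      obtain ⟨s, hs⟩ := Nat.exists_eq_succ_of_ne_zero ht0
      have hs' : s < Y.els.length := by have := t.2; omega
      obtain ⟨hpow, hne1⟩ := hconj s hs'
      have hyN : ∀ L : List (ℕ × ℕ), (∀ h ∈ L, D.okLoc h = true) →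
          ∃ y ∈ N, (y : Cfsg.Spor.ON) = prodw gen (L.flatMap fun h =>
            invW (D.word h) ++ D.el Y (s + 1) ++ D.word h) := by
        intro L
        induction L with
        | nil => exact fun _ => ⟨1, one_mem N, by rw [List.flatMap_nil, prodw_nil]; rfl⟩
        | cons h L ih =>
          intro hL'
          obtain ⟨y, hy, ey⟩ := ih fun u hu => hL' u (List.mem_cons_of_mem _ hu)
          let z : D.K := ⟨_, mem_word hle C (hL' h List.mem_cons_self)⟩
          refine ⟨z⁻¹ * v t * z * y, mul_mem ?_ hy, ?_⟩
          · simpa using hN.conj_mem _ hmemN z⁻¹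
          · rw [List.flatMap_cons, prodw_append, prodw_append, prodw_append, ← ey,
              prodw_invW hle C (lt_word C h)]
            simp only [Subgroup.coe_mul, InvMemClass.coe_inv, z, v, hs, Nat.succ_eq_add_one]
      obtain ⟨y, hy, ey⟩ := hyN (Y.hs.getD s []) fun h hh => by
        rcases getD_mem_or Y.hs s [] with h' | h'
        · exact hhs _ h' h hh
        · rw [h'] at hh; exact absurd hh List.not_mem_nil
      refine ⟨v t * y, mul_mem hmemN hy, ?_, ?_⟩
      · refine Subtype.ext ?_
        rw [Subgroup.coe_pow, Subgroup.coe_one, Subgroup.coe_mul, ey]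
        show (prodw gen (D.el Y t) * _) ^ S.q = 1
        rw [hs, ← prodw_append, ← prodw_flatten_replicate, ← prodw_nil gen]
        exact eq_of_eqW hle (lt_flat C (lt_prodConj C Y s) _)
          (fun x hx => absurd hx List.not_mem_nil) hpow
      · intro h1
        have e : prodw gen (D.prodConj Y s) = prodw gen [] := by
          rw [Data.prodConj, prodw_append, ← ey, prodw_nil]
          have := congrArg Subtype.val h1
          simpa only [Subgroup.coe_mul, Subgroup.coe_one, v, hs, Nat.succ_eq_add_one] using this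
        have hb : eqW (D.prodConj Y s) [] = true := by
          simp only [eqW, List.all_eq_true]
          intro x hx
          rw [walk_eq_of_eq (lt_prodConj C Y s) (fun y hy => absurd hy List.not_mem_nil) e x
            (by simp only [List.mem_cons, List.not_mem_nil, or_false] at hx; omega)]
          exact Nat.beq_refl _
        rw [hne1] at hb
        exact Bool.noConfusion hb

end CfsgLib.ONanAct.Sub
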